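import Mathlib
import Groth.Prelude.Def_CohDer

/-!
Compact objects and adjunctions.
-/

universe v u u'
open CategoryTheory CategoryTheory.Limits

namespace Groth.Agent.CompactLib

variable {D : Type u} [Category.{v} D] [Preadditive D] [HasCoproducts.{v} D]
  {E : Type u'} [Category.{v} E] [Preadditive E] [HasCoproducts.{v} E]
  {F : D ⥤ E} {G : E ⥤ D} (adj : F ⊣ G) [F.Additive]

theorem square {κ : Type v} (K : D) (X : κ → E)
    (z : DirectSum κ fun j => F.obj K ⟶ X j) :
    adj.homEquiv K (∐ X) (CohDer.homSumToHomCoprod (F.obj K) X z) =
      CohDer.homSumToHomCoprod K (fun j => G.obj (X j))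
          (DirectSum.map (fun j => (adj.homAddEquiv K (X j)).toAddMonoidHom) z) ≫
        sigmaComparison G X := by
  classical
  have hval : ∀ (K' : E) (j : κ) (g : K' ⟶ X j),
      CohDer.homSumToHomCoprod K' X (DirectSum.of _ j g) = g ≫ Sigma.ι X j := fun K' j g => by
    simp [CohDer.homSumToHomCoprod, Preadditive.rightComp]
  have hval' : ∀ (j : κ) (g : K ⟶ G.obj (X j)),
      CohDer.homSumToHomCoprod K (fun j => G.obj (X j)) (DirectSum.of _ j g) =
        g ≫ Sigma.ι (fun j => G.obj (X j)) j := fun j g => by
    simp [CohDer.homSumToHomCoprod, Preadditive.rightComp]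
  induction z using DirectSum.induction_on with
  | zero => simp
  | of j g =>
    rw [hval, DirectSum.map_of, hval']
    simp only [AddEquiv.coe_toAddMonoidHom, Adjunction.homAddEquiv_apply, Category.assoc,
      ι_comp_sigmaComparison]
    exact adj.homEquiv_naturality_right _ _
  | add a b ha hb =>
    rw [map_add (CohDer.homSumToHomCoprod (F.obj K) X), Adjunction.homAddEquiv_add, map_add,
      map_add, Preadditive.add_comp, ha, hb]

theorem map_bijective {κ : Type v} (K : D) (X : κ → E) :
    Function.Bijective (DirectSum.map fun j => (adj.homAddEquiv K (X j)).toAddMonoidHom) := by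
  refine ⟨(DirectSum.map_injective _).2 fun j => (adj.homAddEquiv K (X j)).injective,
    (DirectSum.map_surjective _).2 fun j => (adj.homAddEquiv K (X j)).surjective⟩

include adj in
theorem isCompact_left [∀ κ : Type v, PreservesColimitsOfShape (Discrete κ) G] (K : D)
    (hK : CohDer.IsCompactObject K) : CohDer.IsCompactObject (F.obj K) := by
  intro κ X
  have h : Function.Bijective fun z => adj.homEquiv K (∐ X)
      (CohDer.homSumToHomCoprod (F.obj K) X z) := by
    simp only [square adj]
    exact ((Iso.homToEquiv (asIso (sigmaComparison G X)) (Z := K)).bijective.comp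
      ((hK κ _).comp (map_bijective adj K X)) : Function.Bijective _)
  exact (Function.Bijective.of_comp_iff' (adj.homEquiv K (∐ X)).bijective _).1 h

include adj in
theorem comp_bijective {κ : Type v} (K : D) (X : κ → E) (hK : CohDer.IsCompactObject K)
    (hFK : CohDer.IsCompactObject (F.obj K)) :
    Function.Bijective fun h : K ⟶ (∐ fun j => G.obj (X j)) => h ≫ sigmaComparison G X := by
  have h : Function.Bijective fun z => adj.homEquiv K (∐ X)
      (CohDer.homSumToHomCoprod (F.obj K) X z) :=
    (adj.homEquiv K (∐ X)).bijective.comp (hFK κ X)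
  simp only [square adj] at h
  exact (Function.Bijective.of_comp_iff _ ((hK κ _).comp (map_bijective adj K X))).1 h

theorem isCompact_of_iso {K K' : D} (e : K ≅ K') (hK : CohDer.IsCompactObject K) :
    CohDer.IsCompactObject K' := by
  classical
  intro κ X
  let L : DirectSum κ (fun j => K' ⟶ X j) →+ DirectSum κ (fun j => K ⟶ X j) :=
    DirectSum.map fun j => (Preadditive.leftComp (X j) e.hom)
  have hL : Function.Bijective L := by
    have hb : ∀ Y : D, Function.Bijective (Preadditive.leftComp Y e.hom) := fun Y => e.homFromEquiv.symm.bijective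
    exact ⟨(DirectSum.map_injective _).2 fun j => (hb (X j)).1,
      (DirectSum.map_surjective _).2 fun j => (hb (X j)).2⟩
  have key : ∀ z, e.hom ≫ CohDer.homSumToHomCoprod K' X z = CohDer.homSumToHomCoprod K X (L z) := by
    intro z
    induction z using DirectSum.induction_on with
    | zero => simp
    | of j g =>
      simp only [L, DirectSum.map_of]
      simp [CohDer.homSumToHomCoprod, Preadditive.rightComp, Preadditive.leftComp]
    | add a b ha hb => simp only [map_add, Preadditive.comp_add, ha, hb]
  have hc : Function.Bijective fun z => e.hom ≫ CohDer.homSumToHomCoprod K' X z := by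
    simp only [key]
    exact (hK κ X).comp hL
  exact (Function.Bijective.of_comp_iff'
    (f := fun h : K' ⟶ ∐ X => e.hom ≫ h) e.homFromEquiv.symm.bijective _).1 hc

end Groth.Agent.CompactLib
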